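import Mathlib
import Groth.Prelude.Def_Fitting

/-!
# A norm for the reduction in positive characteristic
-/

set_option autoImplicit false
set_option linter.style.haveILetI false

universe u

open CategoryTheory AlgebraicGeometry TopologicalSpace Opposite

namespace Groth.Agent.NilNorm

/-- Nilpotent sections of a noetherian scheme are killed by a uniform power. -/
theorem exists_bound (X : Scheme.{u}) [IsNoetherian X] :
    ∃ N : ℕ, ∀ (U : X.Opens) (s : Γ(X, U)), IsNilpotent s → s ^ N = 0 := by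
  classical
  obtain ⟨𝒰, hfin, hcov⟩ := (isCompact_and_isOpen_iff_finite_and_eq_biUnion_affineOpens (U := (Set.univ : Set X))).1
    ⟨isCompact_univ, isOpen_univ⟩
  haveI := hfin.to_subtype
  haveI : Fintype 𝒰 := Fintype.ofFinite _
  have hN : ∀ U : 𝒰, ∃ N : ℕ, nilradical Γ(X, U.1.1) ^ N = ⊥ := fun U => by
    haveI : IsNoetherianRing Γ(X, U.1.1) := IsLocallyNoetherian.component_noetherian U.1
    obtain ⟨N, hN⟩ := IsNoetherianRing.isNilpotent_nilradical Γ(X, U.1.1)
    exact ⟨N, hN⟩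
  choose N hN using hN
  refine ⟨Finset.univ.sup N, fun U s hs => TopCat.Presheaf.section_ext X.sheaf U _ _ fun x hx => ?_⟩
  obtain ⟨V, hV, hxV⟩ : ∃ V ∈ 𝒰, x ∈ (V : X.Opens) := by
    have : x ∈ (Set.univ : Set X) := trivial
    rw [hcov] at this
    simpa using this
  letI := TopCat.Presheaf.algebra_section_stalk X.presheaf ⟨x, hxV⟩
  haveI := V.2.isLocalization_stalk ⟨x, hxV⟩
  let q := (V.2.primeIdealOf ⟨x, hxV⟩).asIdeal
  set g := X.presheaf.germ U x hx s with hg
  obtain ⟨⟨a, c⟩, hac⟩ := IsLocalization.surj q.primeCompl g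
  have hnil : IsNilpotent (algebraMap Γ(X, V.1) (X.presheaf.stalk x) a) := by
    rw [← hac]; exact (Commute.all _ _).isNilpotent_mul_right (hs.map (X.presheaf.germ U x hx).hom)
  obtain ⟨m, hm⟩ := hnil
  rw [← map_pow] at hm
  obtain ⟨d, hd⟩ := (IsLocalization.map_eq_zero_iff q.primeCompl _ _).1 hm
  have hda : (d : Γ(X, V.1)) * a ∈ nilradical Γ(X, V.1) := ⟨m + 1, by
    rw [mul_pow, pow_succ (d : Γ(X, V.1)), pow_succ a,
      show (d : Γ(X, V.1)) ^ m * d * (a ^ m * a) = (d : Γ(X, V.1)) ^ m * a * (d * a ^ m) by ring, hd, mul_zero]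
    exact zero_mem _⟩
  have h0 : ((d : Γ(X, V.1)) * a) ^ N ⟨V, hV⟩ = 0 := by
    have := Ideal.pow_mem_pow hda (N ⟨V, hV⟩)
    rwa [hN ⟨V, hV⟩, Ideal.mem_bot] at this
  have h1 : g ^ N ⟨V, hV⟩ = 0 := by
    have h2 := congrArg (algebraMap Γ(X, V.1) (X.presheaf.stalk x)) h0
    rw [map_pow, map_mul, ← hac, map_zero, mul_pow, mul_pow] at h2
    exact ((IsLocalization.map_units (X.presheaf.stalk x) c).pow _).mul_left_eq_zero.1
      (((IsLocalization.map_units (X.presheaf.stalk x) d).pow _).mul_right_eq_zero.1 h2)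
  show X.presheaf.germ U x hx (s ^ Finset.univ.sup N) = X.presheaf.germ U x hx 0
  rw [map_pow, map_zero, ← hg]
  exact pow_eq_zero_of_le (Finset.le_sup (Finset.mem_univ _)) h1

noncomputable section

variable {X Y : Scheme.{u}} (π : X ⟶ Y) [IsClosedImmersion π] (q : ℕ)

/-- `t` is the `q`-th power of any local lift of `s`. -/
def IsPow {U : Y.Opens} (s : Γ(X, π ⁻¹ᵁ U)) (t : Γ(Y, U)) : Prop :=
  ∀ (V : Y.affineOpens) (hV : V.1 ≤ U) (a : Γ(Y, V.1)),
    π.app V.1 a = X.presheaf.map ((Opens.map π.base).map (homOfLE hV)).op s →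
      Y.presheaf.map (homOfLE hV).op t = a ^ q

variable (hq : ∀ (V : Y.affineOpens) (a b : Γ(Y, V.1)), π.app V.1 a = π.app V.1 b → a ^ q = b ^ q)

theorem surjective_app (V : Y.affineOpens) : Function.Surjective (π.app V.1) :=
  haveI : IsAffine V.1.toScheme := V.2
  Scheme.Hom.app_surjective π V.1 V.2

include hq in
theorem existsUnique_isPow (U : Y.Opens) (s : Γ(X, π ⁻¹ᵁ U)) : ∃! t : Γ(Y, U), IsPow π q s t := by
  let ι := {V : Y.affineOpens // V.1 ≤ U}
  choose lift hlift using fun V : ι =>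
    surjective_app π V.1 (X.presheaf.map ((Opens.map π.base).map (homOfLE V.2)).op s)
  have hcov : U ≤ iSup fun V : ι => V.1.1 := fun x hx => by
    obtain ⟨V, hV, hxV, hVU⟩ := exists_isAffineOpen_mem_and_subset (X := Y) (x := x) (U := U) hx
    exact Opens.mem_iSup.2 ⟨⟨⟨V, hV⟩, hVU⟩, hxV⟩
  have hcomp : TopCat.Presheaf.IsCompatible Y.sheaf.1 (fun V : ι => V.1.1) fun V => lift V ^ q := by
    intro V V'
    refine TopCat.Presheaf.section_ext Y.sheaf _ _ _ fun x hx => ?_
    obtain ⟨W, hW, hxW, hWV⟩ := exists_isAffineOpen_mem_and_subset (X := Y) (x := x) (U := V.1.1 ⊓ V'.1.1) hx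
    have key := hq ⟨W, hW⟩ (Y.presheaf.map (homOfLE (hWV.trans inf_le_left)).op (lift V))
      (Y.presheaf.map (homOfLE (hWV.trans inf_le_right)).op (lift V')) (by
        rw [← CommRingCat.comp_apply, ← CommRingCat.comp_apply, π.naturality, π.naturality,
          CommRingCat.comp_apply, CommRingCat.comp_apply, hlift, hlift, ← CommRingCat.comp_apply,
          ← CommRingCat.comp_apply, ← X.presheaf.map_comp, ← X.presheaf.map_comp]
        rfl)
    rw [← map_pow, ← map_pow] at key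
    have := congrArg (Y.presheaf.germ W x hxW) key
    erw [TopCat.Presheaf.germ_res_apply, TopCat.Presheaf.germ_res_apply] at this
    show Y.presheaf.germ _ x hx (Y.presheaf.map _ (lift V ^ q)) = Y.presheaf.germ _ x hx (Y.presheaf.map _ (lift V' ^ q))
    erw [TopCat.Presheaf.germ_res_apply, TopCat.Presheaf.germ_res_apply]
    exact this
  obtain ⟨t, ht, htu⟩ := Y.sheaf.existsUnique_gluing' _ U (fun V : ι => homOfLE V.2) hcov _ hcomp
  refine ⟨t, fun V hV a ha => ?_, fun t' ht' => htu t' fun V => ht' V.1 V.2 _ (hlift V)⟩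
  refine (ht ⟨V, hV⟩).trans (hq V _ _ ?_)
  rw [hlift ⟨V, hV⟩, ha]

/-- The power map. -/
def N (U : Y.Opens) (s : Γ(X, π ⁻¹ᵁ U)) : Γ(Y, U) := (existsUnique_isPow π q hq U s).choose

theorem N_spec (U : Y.Opens) (s : Γ(X, π ⁻¹ᵁ U)) : IsPow π q s (N π q hq U s) :=
  (existsUnique_isPow π q hq U s).choose_spec.1

theorem N_eq {U : Y.Opens} {s : Γ(X, π ⁻¹ᵁ U)} {t : Γ(Y, U)} (h : IsPow π q s t) : N π q hq U s = t :=
  ((existsUnique_isPow π q hq U s).choose_spec.2 t h).symm

include hq in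
theorem hasNorm (hq0 : 1 ≤ q) : Nrm.HasNorm π q := by
  refine ⟨{ one_le := hq0, norm := fun U => { toFun := N π q hq U, map_one' := N_eq π q hq ?_, map_mul' := fun s t => N_eq π q hq ?_ },
            norm_res := fun {U V} i s => ?_, norm_app := fun U g => N_eq π q hq ?_, norm_mem := fun U s x hx h => ?_ }⟩
  · intro V hV a ha
    rw [map_one, ← one_pow q]
    exact hq V _ _ (by rw [map_one, ha, map_one])
  · intro V hV a ha
    obtain ⟨b, hb⟩ := surjective_app π V (X.presheaf.map ((Opens.map π.base).map (homOfLE hV)).op s)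
    obtain ⟨c, hc⟩ := surjective_app π V (X.presheaf.map ((Opens.map π.base).map (homOfLE hV)).op t)
    rw [map_mul, N_spec π q hq U s V hV b hb, N_spec π q hq U t V hV c hc, ← mul_pow]
    exact hq V _ _ (by rw [map_mul, hb, hc, ← map_mul, ha])
  · refine (N_eq π q hq fun W hW a ha => ?_).symm
    rw [← CommRingCat.comp_apply, ← Y.presheaf.map_comp]
    refine N_spec π q hq U s W (hW.trans i.le) a ?_
    rw [ha, ← CommRingCat.comp_apply, ← X.presheaf.map_comp]
    rfl
  · intro V hV a ha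
    rw [map_pow]
    refine hq V _ _ ?_
    rw [ha, ← CommRingCat.comp_apply, π.naturality]
    rfl
  · obtain ⟨V, hV, hxV, hVU⟩ := exists_isAffineOpen_mem_and_subset (X := Y) (x := π.base x) (U := U) hx
    obtain ⟨a, ha⟩ := surjective_app π ⟨V, hV⟩ (X.presheaf.map ((Opens.map π.base).map (homOfLE hVU)).op s)
    show Y.presheaf.germ U (π.base x) hx (N π q hq U s) ∈ _
    rw [← TopCat.Presheaf.germ_res_apply Y.presheaf (homOfLE hVU) (π.base x) hxV,
      N_spec π q hq U s ⟨V, hV⟩ hVU a ha, map_pow]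
    refine Ideal.pow_mem_of_mem _ ?_ q hq0
    rw [IsLocalRing.mem_maximalIdeal, mem_nonunits_iff] at h ⊢
    intro hu
    apply h
    have h2 := hu.map (π.stalkMap x).hom
    rw [Scheme.Hom.germ_stalkMap_apply, ha, TopCat.Presheaf.germ_res_apply] at h2
    exact h2

end

/-- The reduction of a noetherian scheme of characteristic `p` has a norm of `p`-power degree. -/
theorem exists_hasNorm (X : Scheme.{u}) [IsNoetherian X] (p : ℕ) (hp : p.Prime) (hpX : (p : Γ(X, ⊤)) = 0) :
    ∃ e : ℕ, 0 < e ∧ Nrm.HasNorm X.nilradical.subschemeι (p ^ e) := by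
  obtain ⟨N, hN⟩ := exists_bound X
  refine ⟨N + 1, N.succ_pos, hasNorm _ _ (fun V a b hab => ?_) (Nat.one_le_pow _ _ hp.pos)⟩
  haveI := Fact.mk hp
  have hp0 : (p : Γ(X, V.1)) = 0 := by
    rw [← map_natCast (X.presheaf.map (homOfLE le_top : V.1 ⟶ ⊤).op).hom, hpX, map_zero]
  have hker : a - b ∈ RingHom.ker (X.nilradical.subschemeι.app V.1).hom := by
    rw [RingHom.mem_ker, map_sub, sub_eq_zero]; exact hab
  rw [Scheme.IdealSheafData.ker_subschemeι_app] at hker
  have hnil : IsNilpotent (a - b) := hker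
  cases subsingleton_or_nontrivial Γ(X, V.1) with
  | inl h => exact Subsingleton.elim _ _
  | inr h =>
    haveI : CharP Γ(X, V.1) p := (CharP.charP_iff_prime_eq_zero hp).2 hp0
    rw [← sub_eq_zero, ← sub_pow_char_pow]
    refine pow_eq_zero_of_le ?_ (hN _ _ hnil)
    exact (N.le_succ.trans (Nat.lt_pow_self hp.one_lt).le)

end Groth.Agent.NilNorm
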